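import Groth.Agent.ResProp.EF.K315.Pts

/-!
# Coordinates of comodules and of cochains, the cocycle identity on points (block G2b, node J7 of `S16912`)
-/

set_option autoImplicit false

universe u

open TensorProduct

noncomputable section

namespace Groth.Agent.ResProp.EF.K315

open Groth.Agent.ResProp.EF.Grp
open Algebra.TensorProduct (productMap includeLeft includeRight)

variable {k : Type u} [CommRing k]

section lin

variable {V : Type u} [AddCommGroup V] [Module k V] {A R : Type u} [CommRing A] [Algebra k A] [CommRing R] [Algebra k R]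

theorem coef1_tmul (φ : V →ₗ[k] k) (v : V) (a : A) : coef1 (k := k) (A := A) φ (v ⊗ₜ a) = φ v • a := by
  simp [coef1]

theorem coef2_tmul (φ : V →ₗ[k] k) (v : V ⊗[k] A) (a : A) :
    coef2 (k := k) (A := A) φ (v ⊗ₜ a) = coef1 (k := k) (A := A) φ v ⊗ₜ a := by
  simp [coef2]

theorem sum_coef1 {n : ℕ} (b : Module.Basis (Fin n) k V) (y : V ⊗[k] A) :
    ∑ i, b i ⊗ₜ[k] coef1 (k := k) (A := A) (b.coord i) y = y := by
  induction y using TensorProduct.induction_on with
  | zero => simp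
  | add x y hx hy =>
    simp only [map_add, TensorProduct.tmul_add, Finset.sum_add_distrib, hx, hy]
  | tmul v a =>
    simp only [coef1_tmul]
    conv_rhs => rw [← b.sum_repr v]
    rw [TensorProduct.sum_tmul]
    refine Finset.sum_congr rfl fun i _ => ?_
    rw [TensorProduct.smul_tmul, Module.Basis.coord_apply]

theorem sum_coef2 {n : ℕ} (b : Module.Basis (Fin n) k V) (z : (V ⊗[k] A) ⊗[k] A) :
    ∑ i, (TensorProduct.assoc k V A A).symm (b i ⊗ₜ[k] coef2 (k := k) (A := A) (b.coord i) z) = z := by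
  induction z using TensorProduct.induction_on with
  | zero => simp
  | add x y hx hy =>
    simp only [map_add, TensorProduct.tmul_add, Finset.sum_add_distrib, hx, hy]
  | tmul v a =>
    simp only [coef2_tmul, TensorProduct.assoc_symm_tmul]
    rw [← TensorProduct.sum_tmul, sum_coef1]

/-- `v ⊗ a ↦ φ(v) f(a)` -/
def e1 (φ : V →ₗ[k] k) (f : A →ₐ[k] R) : V ⊗[k] A →ₗ[k] R := f.toLinearMap ∘ₗ coef1 (k := k) (A := A) φ

/-- `v ⊗ a ⊗ a' ↦ φ(v) f(a) g(a')` -/
def e2 (φ : V →ₗ[k] k) (f g : A →ₐ[k] R) : (V ⊗[k] A) ⊗[k] A →ₗ[k] R :=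
  LinearMap.mul' k R ∘ₗ TensorProduct.map (e1 φ f) g.toLinearMap

/-- `v ⊗ a ⊗ a' ⊗ a'' ↦ φ(v) f(a) g(a') h(a'')` -/
def e3 (φ : V →ₗ[k] k) (f g h : A →ₐ[k] R) : ((V ⊗[k] A) ⊗[k] A) ⊗[k] A →ₗ[k] R :=
  LinearMap.mul' k R ∘ₗ TensorProduct.map (e2 φ f g) h.toLinearMap

theorem e1_apply (φ : V →ₗ[k] k) (f : A →ₐ[k] R) (x : V ⊗[k] A) :
    e1 φ f x = f (coef1 (k := k) (A := A) φ x) := rfl

theorem e1_tmul (φ : V →ₗ[k] k) (f : A →ₐ[k] R) (v : V) (a : A) : e1 φ f (v ⊗ₜ a) = φ v • f a := by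
  rw [e1_apply, coef1_tmul, map_smul]

theorem e2_tmul (φ : V →ₗ[k] k) (f g : A →ₐ[k] R) (x : V ⊗[k] A) (a : A) :
    e2 φ f g (x ⊗ₜ a) = e1 φ f x * g a := by
  simp [e2]

theorem e3_tmul (φ : V →ₗ[k] k) (f g h : A →ₐ[k] R) (x : (V ⊗[k] A) ⊗[k] A) (a : A) :
    e3 φ f g h (x ⊗ₜ a) = e2 φ f g x * h a := by
  simp [e3]

theorem e2_eq (φ : V →ₗ[k] k) (f g : A →ₐ[k] R) (z : (V ⊗[k] A) ⊗[k] A) :
    e2 φ f g z = productMap f g (coef2 (k := k) (A := A) φ z) := by
  induction z using TensorProduct.induction_on with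
  | zero => simp
  | add x y hx hy => simp only [map_add, hx, hy]
  | tmul v a => rw [e2_tmul, coef2_tmul, e1_apply, Algebra.TensorProduct.productMap_apply_tmul]

theorem e2_assoc (φ : V →ₗ[k] k) (f g : A →ₐ[k] R) (v : V) (w : A ⊗[k] A) :
    e2 φ f g ((TensorProduct.assoc k V A A).symm (v ⊗ₜ w)) = φ v • productMap f g w := by
  induction w using TensorProduct.induction_on with
  | zero => simp
  | add x y hx hy => simp only [map_add, TensorProduct.tmul_add, smul_add, hx, hy]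
  | tmul a c =>
    rw [TensorProduct.assoc_symm_tmul, e2_tmul, e1_tmul, Algebra.TensorProduct.productMap_apply_tmul,
      smul_mul_assoc]

theorem e3_assoc (φ : V →ₗ[k] k) (f g h : A →ₐ[k] R) (x : V ⊗[k] A) (w : A ⊗[k] A) :
    e3 φ f g h ((TensorProduct.assoc k (V ⊗[k] A) A A).symm (x ⊗ₜ w)) = e1 φ f x * productMap g h w := by
  induction w using TensorProduct.induction_on with
  | zero => simp
  | add x y hx hy => simp only [map_add, TensorProduct.tmul_add, mul_add, hx, hy]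
  | tmul a c =>
    rw [TensorProduct.assoc_symm_tmul, e3_tmul, e2_tmul, Algebra.TensorProduct.productMap_apply_tmul, mul_assoc]

end lin

section coord

variable {E : Gp k} (V : GMod E) {n : ℕ} (b : Module.Basis (Fin n) k V.V)
variable {R : Type u} [CommRing R] [Algebra k R]

/-- the coaction of `V` -/
abbrev rho : V.V →ₗ[k] V.V ⊗[k] E.O := HopfRep.Comod.coact (k := k) (A := E.O)

/-- matrix coefficients -/
def mc (i j : Fin n) : E.O := coef1 (k := k) (A := E.O) (b.coord i) (rho V (b j))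

theorem rho_basis (j : Fin n) : rho V (b j) = ∑ i, b i ⊗ₜ[k] mc V b i j := (sum_coef1 b _).symm

theorem e1_rho (i : Fin n) (f : E.O →ₐ[k] R) (v : V.V) :
    e1 (b.coord i) f (rho V v) = ∑ j, b.coord j v • f (mc V b i j) := by
  conv_lhs => rw [← b.sum_repr v]
  rw [map_sum, map_sum]
  refine Finset.sum_congr rfl fun j _ => ?_
  rw [map_smul, map_smul, Module.Basis.coord_apply]
  rfl

theorem lid_assoc {W A C : Type u} [AddCommGroup W] [Module k W] [CommRing A] [Algebra k A]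
    [AddCommGroup C] [Module k C] (φ : W →ₗ[k] k) (x : W ⊗[k] A) (c : C) :
    TensorProduct.lid k (A ⊗[k] C) (φ.rTensor (A ⊗[k] C) (TensorProduct.assoc k W A C (x ⊗ₜ c))) =
      coef1 (k := k) (A := A) φ x ⊗ₜ c := by
  induction x using TensorProduct.induction_on with
  | zero => simp
  | add x y hx hy => simp only [map_add, TensorProduct.add_tmul, hx, hy]
  | tmul a c => simp [coef1_tmul, TensorProduct.smul_tmul']

theorem comul_mc (i j : Fin n) :
    Coalgebra.comul (R := k) (mc V b i j) = ∑ l, mc V b i l ⊗ₜ[k] mc V b l j := by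
  have h := LinearMap.congr_fun (HopfRep.Comod.coassoc (k := k) (A := E.O) (V := V.V)) (b j)
  simp only [LinearMap.comp_apply, LinearEquiv.coe_coe] at h
  change TensorProduct.assoc k V.V E.O E.O ((rho V).rTensor E.O (rho V (b j))) =
    (CoalgebraStruct.comul (R := k) (A := E.O)).lTensor V.V (rho V (b j)) at h
  rw [rho_basis V b j, map_sum, map_sum, map_sum] at h
  simp only [LinearMap.rTensor_tmul, LinearMap.lTensor_tmul] at h
  have h2 := congrArg (fun y => (TensorProduct.lid k (E.O ⊗[k] E.O)) ((b.coord i).rTensor (E.O ⊗[k] E.O) y)) h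
  simp only [map_sum] at h2
  have h4 : ∀ l, (TensorProduct.lid k (E.O ⊗[k] E.O)) ((b.coord i).rTensor (E.O ⊗[k] E.O)
      (TensorProduct.assoc k V.V E.O E.O (rho V (b l) ⊗ₜ[k] mc V b l j))) = mc V b i l ⊗ₜ[k] mc V b l j :=
    fun l => lid_assoc (b.coord i) (rho V (b l)) (mc V b l j)
  simp only [LinearMap.rTensor_tmul, TensorProduct.lid_tmul] at h2
  rw [Finset.sum_congr rfl fun l _ => h4 l] at h2
  have h3 : ∑ l, (b.coord i) (b l) • CoalgebraStruct.comul (R := k) (mc V b l j) =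
      CoalgebraStruct.comul (R := k) (mc V b i j) := by
    rw [Finset.sum_eq_single i]
    · simp
    · intro c _ hc
      simp [hc]
    · simp
  rw [h3] at h2
  exact h2.symm

theorem counit_mc (i j : Fin n) : Coalgebra.counit (R := k) (mc V b i j) = if i = j then 1 else 0 := by
  have h := LinearMap.congr_fun (HopfRep.Comod.counit_comp (k := k) (A := E.O) (V := V.V)) (b j)
  simp only [LinearMap.comp_apply, LinearMap.flip_apply, TensorProduct.mk_apply] at h
  change (CoalgebraStruct.counit (R := k) (A := E.O)).lTensor V.V (rho V (b j)) = _ at h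
  rw [rho_basis V b j, map_sum] at h
  simp only [LinearMap.lTensor_tmul] at h
  have h2 := congrArg (fun y => (TensorProduct.lid k k) ((b.coord i).rTensor k y)) h
  simp only [map_sum] at h2
  simp only [LinearMap.rTensor_tmul, TensorProduct.lid_tmul] at h2
  rw [Finset.sum_eq_single i] at h2
  · simpa [Finsupp.single_apply, eq_comm] using h2
  · intro c _ hc
    simp [hc]
  · simp

theorem pA_mc (f g : E.O →ₐ[k] R) (i j : Fin n) :
    pA f g (mc V b i j) = ∑ l, f (mc V b i l) * g (mc V b l j) := by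
  rw [pm_apply, Bialgebra.comulAlgHom_apply]
  change productMap f g (Coalgebra.comul (R := k) (mc V b i j)) = _
  rw [comul_mc, map_sum]
  simp

theorem eA_mc (i j : Fin n) : eA k E.O R (mc V b i j) = if i = j then 1 else 0 := by
  change algebraMap k R (Coalgebra.counit (R := k) (mc V b i j)) = _
  rw [counit_mc]
  split_ifs <;> simp

/-- coordinates of a 2-cochain at a pair of points -/
def zz (z : V.C 2) (f g : E.O →ₐ[k] R) (i : Fin n) : R :=
  productMap f g (coef2 (k := k) (V := V.V) (A := E.O) (b.coord i) z)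

theorem aux1 {M : Type u} [AddCommGroup M] [Module k M] (x y : M) : x + ((-1 : k) ^ (0 + 1)) • y = x - y := by
  simp [sub_eq_add_neg]

theorem aux2 {M : Type u} [AddCommGroup M] [Module k M] (x y : M) : x + ((-1 : k) ^ (1 + 1)) • y = x + y := by
  simp

theorem d1_apply (v : V.V) (a : E.O) :
    (V.d 1 (v ⊗ₜ a) : (V.V ⊗[k] E.O) ⊗[k] E.O) = (rho V v - v ⊗ₜ 1) ⊗ₜ a -
      (TensorProduct.assoc k V.V E.O E.O).symm (v ⊗ₜ (Coalgebra.comul (R := k) a - a ⊗ₜ 1 - 1 ⊗ₜ a)) := by
  change (rho V v - v ⊗ₜ 1) ⊗ₜ a + ((-1 : k) ^ (0 + 1)) •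
    ((TensorProduct.assoc k V.V E.O E.O).symm (v ⊗ₜ (Coalgebra.comul (R := k) a - a ⊗ₜ 1 - 1 ⊗ₜ a))) = _
  exact aux1 (k := k) (M := (V.V ⊗[k] E.O) ⊗[k] E.O) _ _

theorem d2_apply (x : V.V ⊗[k] E.O) (c : E.O) :
    (V.d 2 (x ⊗ₜ c) : ((V.V ⊗[k] E.O) ⊗[k] E.O) ⊗[k] E.O) = (V.d 1 x : (V.V ⊗[k] E.O) ⊗[k] E.O) ⊗ₜ c +
      (TensorProduct.assoc k (V.V ⊗[k] E.O) E.O E.O).symm (x ⊗ₜ (Coalgebra.comul (R := k) c - c ⊗ₜ 1 - 1 ⊗ₜ c)) := by
  change (V.d 1 x : (V.V ⊗[k] E.O) ⊗[k] E.O) ⊗ₜ c + ((-1 : k) ^ (1 + 1)) •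
    (TensorProduct.assoc k (V.V ⊗[k] E.O) E.O E.O).symm (x ⊗ₜ (Coalgebra.comul (R := k) c - c ⊗ₜ 1 - 1 ⊗ₜ c)) = _
  exact aux2 (k := k) (M := ((V.V ⊗[k] E.O) ⊗[k] E.O) ⊗[k] E.O) _ _

theorem productMap_red (f g : E.O →ₐ[k] R) (a : E.O) :
    productMap f g (Coalgebra.comul (R := k) a - a ⊗ₜ 1 - 1 ⊗ₜ a) = pA f g a - f a - g a := by
  rw [map_sub, map_sub]
  simp [pm_apply]

/-- the differential `d 2` at three points -/
theorem e3_d2 (i : Fin n) (f g h : E.O →ₐ[k] R) (z : (V.V ⊗[k] E.O) ⊗[k] E.O) :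
    e3 (b.coord i) f g h (V.d 2 z) =
      ∑ j, f (mc V b i j) * e2 (b.coord j) g h z - e2 (b.coord i) (pA f g) h z + e2 (b.coord i) f (pA g h) z -
        e2 (b.coord i) f g z := by
  induction z using TensorProduct.induction_on with
  | zero =>
    have : V.d 2 (0 : (V.V ⊗[k] E.O) ⊗[k] E.O) = 0 := map_zero _
    rw [this]
    simp
  | add x y hx hy =>
    have : V.d 2 (x + y) = V.d 2 x + V.d 2 y := map_add _ _ _
    rw [this]
    simp only [map_add] at hx hy ⊢
    rw [hx, hy]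
    simp only [mul_add, Finset.sum_add_distrib]
    ring
  | tmul x c =>
    induction x using TensorProduct.induction_on with
    | zero =>
      rw [TensorProduct.zero_tmul]
      have : V.d 2 (0 : (V.V ⊗[k] E.O) ⊗[k] E.O) = 0 := map_zero _
      rw [this]
      simp
    | add x y hx hy =>
      rw [TensorProduct.add_tmul]
      have : V.d 2 (x ⊗ₜ[k] c + y ⊗ₜ[k] c) = V.d 2 (x ⊗ₜ[k] c) + V.d 2 (y ⊗ₜ[k] c) := map_add _ _ _
      rw [this]
      simp only [map_add] at hx hy ⊢
      rw [hx, hy]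
      simp only [mul_add, Finset.sum_add_distrib]
      ring
    | tmul v a =>
      rw [d2_apply, d1_apply, map_add, e3_tmul, e3_assoc, map_sub, e2_tmul, e2_assoc, productMap_red,
        productMap_red, map_sub, e1_rho]
      simp only [e1_tmul, e2_tmul, map_one]
      simp only [Finset.sum_mul, sub_mul, Algebra.smul_def]
      simp only [mul_one]
      have : ∀ j, f (mc V b i j) * (algebraMap k R (b.coord j v) * g a * h c) =
        algebraMap k R (b.coord j v) * f (mc V b i j) * g a * h c := fun j => by ring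
      simp only [this]
      ring

/-- the cocycle identity at three points -/
theorem cocycle (z : V.C 2) (hz : V.d 2 z = 0) (f g h : E.O →ₐ[k] R) (i : Fin n) :
    ∑ j, f (mc V b i j) * zz V b z g h j - zz V b z (pA f g) h i + zz V b z f (pA g h) i - zz V b z f g i = 0 := by
  have h1 := e3_d2 V b i f g h z
  have h2 : e3 (b.coord i) f g h (V.d 2 z) = 0 := by rw [hz]; exact map_zero _
  rw [h2] at h1
  simp only [e2_eq] at h1
  exact h1.symm

end coord

end Groth.Agent.ResProp.EF.K315
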