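import Groth.Agent.ResProp.EF.K315.Coord
import Groth.Agent.ResProp.EF.K624.Nodes
import Groth.Agent.ResProp.EF.K785.Nat

/-!
# The Hopf algebra `A ⊗ P` of a one step extension (block G2b, node J7 of `S16912`)
-/

set_option autoImplicit false

universe u

open TensorProduct

noncomputable section

namespace Groth.Agent.ResProp.EF.K315

open Groth.Agent.ResProp.EF.Grp
open Groth.Agent.ResProp.EF.K624 (TF PDAlg HasPD)
open Groth.Agent.ResProp.EF.K785 (natI mem_natI map_mem_natI)
open Algebra.TensorProduct (productMap includeLeft includeRight)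

variable {k : Type u} [CommRing k]

section tf

theorem tf_base (p : ℕ) [h : IsLb p k] : TF k := by
  have := h.dom
  have := h.char0
  intro n hn x y hxy
  simp only [nsmul_eq_mul] at hxy
  exact mul_left_cancel₀ (Nat.cast_ne_zero.2 hn) hxy

theorem tf_free (hk : TF k) (R : Type u) [CommRing R] [Algebra k R] [Module.Free k R] : TF R := by
  intro n hn x y hxy
  let c := Module.Free.chooseBasis k R
  apply c.repr.injective
  ext i
  apply hk n hn
  have h : c.repr (n • x) i = c.repr (n • y) i := congrArg (fun r => c.repr r i) hxy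
  rw [map_nsmul, map_nsmul] at h
  exact h

theorem isNat_map {A B : Type u} [CommRing A] [CommRing B] [Algebra k A] [Algebra k B] (f : A →ₐ[k] B) {a : A}
    (h : IsNat a) : IsNat (f a) := map_mem_natI f.toRingHom h

end tf

section ext

variable {A : Type u} [CommRing A] [Algebra k A] {n : ℕ} (D : PDAlg k n)
variable {R R' : Type u} [CommRing R] [Algebra k R] [CommRing R'] [Algebra k R']

/-- the `A`-part of a point -/
def fA (F : A ⊗[k] D.P →ₐ[k] R) : A →ₐ[k] R := F.comp includeLeft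

/-- the coordinates of a point -/
def fx (F : A ⊗[k] D.P →ₐ[k] R) (i : Fin n) : R := F (1 ⊗ₜ D.x i)

theorem fA_comp (φ : R →ₐ[k] R') (F : A ⊗[k] D.P →ₐ[k] R) : fA D (φ.comp F) = φ.comp (fA D F) := by
  rw [fA, fA, AlgHom.comp_assoc]

theorem fx_comp (φ : R →ₐ[k] R') (F : A ⊗[k] D.P →ₐ[k] R) (i : Fin n) : fx D (φ.comp F) i = φ (fx D F i) := rfl

theorem fx_nat (F : A ⊗[k] D.P →ₐ[k] R) (i : Fin n) : IsNat (fx D F i) := by
  have : fx D F i = (F.comp includeRight) (D.x i) := rfl
  rw [this]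
  exact isNat_map _ (D.nx i)

theorem pt_ext (hR : TF R) {F G : A ⊗[k] D.P →ₐ[k] R} (h1 : fA D F = fA D G) (h2 : ∀ i, fx D F i = fx D G i) :
    F = G := by
  refine Algebra.TensorProduct.ext h1 ?_
  obtain ⟨h, -, hu⟩ := D.univ R hR (fun i => fx D F i) (fun i => fx_nat D F i)
  have e1 := hu (F.comp includeRight) (fun i => rfl)
  have e2 := hu (G.comp includeRight) (fun i => (h2 i).symm)
  exact e1.trans e2.symm

/-- the point with given coordinates -/
def mk (hR : TF R) (g : A →ₐ[k] R) (y : Fin n → R) (hy : ∀ i, IsNat (y i)) : A ⊗[k] D.P →ₐ[k] R :=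
  productMap g (D.univ R hR y hy).choose

theorem fA_mk (hR : TF R) (g : A →ₐ[k] R) (y : Fin n → R) (hy : ∀ i, IsNat (y i)) : fA D (mk D hR g y hy) = g := by
  rw [fA, mk, Algebra.TensorProduct.productMap_left]

theorem fx_mk (hR : TF R) (g : A →ₐ[k] R) (y : Fin n → R) (hy : ∀ i, IsNat (y i)) (i : Fin n) :
    fx D (mk D hR g y hy) i = y i := by
  rw [fx, mk, Algebra.TensorProduct.productMap_apply_tmul, map_one, one_mul]
  exact (D.univ R hR y hy).choose_spec.1 i

end ext

section hopf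

variable {E : Gp k} (V : GMod E) {n : ℕ} (b : Module.Basis (Fin n) k V.V) (z : V.C 2)
variable {R R' : Type u} [CommRing R] [Algebra k R] [CommRing R'] [Algebra k R']

theorem zz_map (φ : R →ₐ[k] R') (f g : E.O →ₐ[k] R) (i : Fin n) :
    φ (zz V b z f g i) = zz V b z (φ.comp f) (φ.comp g) i := by
  rw [zz, zz, ← comp_productMap]
  rfl

theorem zz_nat (nz : ∀ f : V.V →ₗ[k] k, IsNat (coef2 (k := k) (A := E.O) f z)) (f g : E.O →ₐ[k] R) (i : Fin n) :
    IsNat (zz V b z f g i) := isNat_map _ (nz _)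

variable (hz : V.d 2 z = 0)

include hz in
theorem zz_left (f : E.O →ₐ[k] R) (i : Fin n) :
    zz V b z (eA k E.O R) f i = zz V b z (eA k E.O R) (eA k E.O R) i := by
  have h := cocycle V b z hz (eA k E.O R) (eA k E.O R) f i
  simp only [eA_mc, eA_pA, ite_mul, one_mul, zero_mul, Finset.sum_ite_eq, Finset.mem_univ, if_true] at h
  linear_combination h

include hz in
theorem zz_right (f : E.O →ₐ[k] R) (i : Fin n) :
    ∑ j, f (mc V b i j) * zz V b z (eA k E.O R) (eA k E.O R) j = zz V b z f (eA k E.O R) i := by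
  have h := cocycle V b z hz f (eA k E.O R) (eA k E.O R) i
  simp only [pA_eA] at h
  linear_combination h

variable (nz : ∀ f : V.V →ₗ[k] k, IsNat (coef2 (k := k) (A := E.O) f z)) (D : PDAlg k n) (hk : TF k)

/-- the product of coordinates -/
def mulx (f : E.O →ₐ[k] R) (x : Fin n → R) (g : E.O →ₐ[k] R) (y : Fin n → R) (i : Fin n) : R :=
  x i + ∑ j, f (mc V b i j) * y j - zz V b z f g i

theorem map_mulx (φ : R →ₐ[k] R') (f : E.O →ₐ[k] R) (x : Fin n → R) (g : E.O →ₐ[k] R) (y : Fin n → R) (i : Fin n) :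
    φ (mulx V b z f x g y i) = mulx V b z (φ.comp f) (fun i => φ (x i)) (φ.comp g) (fun i => φ (y i)) i := by
  simp [mulx, zz_map]

include nz in
theorem mulx_nat (f : E.O →ₐ[k] R) (x : Fin n → R) (g : E.O →ₐ[k] R) (y : Fin n → R) (hx : ∀ i, IsNat (x i))
    (hy : ∀ i, IsNat (y i)) (i : Fin n) : IsNat (mulx V b z f x g y i) := by
  change _ ∈ natI R
  refine sub_mem (add_mem (hx i) (sum_mem fun j _ => Ideal.mul_mem_left _ _ (hy j))) ?_
  exact zz_nat V b z nz f g i

/-- the inverse of coordinates -/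
def invx (f : E.O →ₐ[k] R) (x : Fin n → R) (i : Fin n) : R :=
  ∑ j, iA f (mc V b i j) * (zz V b z (eA k E.O R) (eA k E.O R) j + zz V b z f (iA f) j - x j)

include nz in
theorem invx_nat (f : E.O →ₐ[k] R) (x : Fin n → R) (hx : ∀ i, IsNat (x i)) (i : Fin n) :
    IsNat (invx V b z f x i) := by
  change _ ∈ natI R
  refine sum_mem fun j _ => Ideal.mul_mem_left _ _ ?_
  exact sub_mem (add_mem (zz_nat V b z nz _ _ j) (zz_nat V b z nz _ _ j)) (hx j)

theorem comp_eA (φ : R →ₐ[k] R') : φ.comp (eA k E.O R) = eA k E.O R' := by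
  ext a
  simp [p1, Algebra.ofId_apply]

/-- comultiplication -/
def comul : E.O ⊗[k] D.P →ₐ[k] (E.O ⊗[k] D.P) ⊗[k] (E.O ⊗[k] D.P) :=
  mk D (tf_free hk _) (pA (fA D includeLeft) (fA D includeRight))
    (mulx V b z (fA D includeLeft) (fx D includeLeft) (fA D includeRight) (fx D includeRight))
    (mulx_nat V b z nz _ _ _ _ (fx_nat D _) (fx_nat D _))

/-- counit -/
def counit : E.O ⊗[k] D.P →ₐ[k] k :=
  mk D hk (eA k E.O k) (zz V b z (eA k E.O k) (eA k E.O k)) (zz_nat V b z nz _ _)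

theorem fA_pm (F G : E.O ⊗[k] D.P →ₐ[k] R) :
    fA D (pm (comul V b z nz D hk) F G) = pA (fA D F) (fA D G) := by
  rw [pm, fA_comp, comul, fA_mk, comp_pm, ← fA_comp, ← fA_comp, Algebra.TensorProduct.productMap_left,
    Algebra.TensorProduct.productMap_right]

theorem fx_pm (F G : E.O ⊗[k] D.P →ₐ[k] R) (i : Fin n) :
    fx D (pm (comul V b z nz D hk) F G) i = mulx V b z (fA D F) (fx D F) (fA D G) (fx D G) i := by
  rw [pm, fx_comp, comul, fx_mk, map_mulx, ← fA_comp, ← fA_comp, Algebra.TensorProduct.productMap_left,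
    Algebra.TensorProduct.productMap_right]
  simp only [← fx_comp, Algebra.TensorProduct.productMap_left, Algebra.TensorProduct.productMap_right]

theorem fA_p1 : fA D (p1 (counit V b z nz D hk) R) = eA k E.O R := by
  rw [p1, fA_comp, counit, fA_mk, comp_eA]

theorem fx_p1 (i : Fin n) : fx D (p1 (counit V b z nz D hk) R) i = zz V b z (eA k E.O R) (eA k E.O R) i := by
  rw [p1, fx_comp, counit, fx_mk, zz_map, comp_eA]

include hz in
theorem pm_assoc (hR : TF R) (F G H : E.O ⊗[k] D.P →ₐ[k] R) :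
    pm (comul V b z nz D hk) (pm (comul V b z nz D hk) F G) H =
      pm (comul V b z nz D hk) F (pm (comul V b z nz D hk) G H) := by
  refine pt_ext D hR ?_ fun i => ?_
  · simp only [fA_pm, pA_assoc]
  · simp only [fx_pm, fA_pm, mulx]
    have h := cocycle V b z hz (fA D F) (fA D G) (fA D H) i
    simp only [pA_mc, mul_add, mul_sub, Finset.sum_add_distrib, Finset.sum_sub_distrib, Finset.sum_mul, Finset.mul_sum]
    rw [Finset.sum_comm]
    simp only [mul_assoc] at h ⊢
    linear_combination h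

include hz in
theorem p1_pm (hR : TF R) (F : E.O ⊗[k] D.P →ₐ[k] R) :
    pm (comul V b z nz D hk) (p1 (counit V b z nz D hk) R) F = F := by
  refine pt_ext D hR ?_ fun i => ?_
  · rw [fA_pm, fA_p1, eA_pA]
  · rw [fx_pm, mulx, fA_p1, fx_p1, zz_left V b z hz (fA D F)]
    simp only [eA_mc, ite_mul, one_mul, zero_mul, Finset.sum_ite_eq, Finset.mem_univ, if_true]
    ring

include hz in
theorem pm_p1 (hR : TF R) (F : E.O ⊗[k] D.P →ₐ[k] R) :
    pm (comul V b z nz D hk) F (p1 (counit V b z nz D hk) R) = F := by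
  refine pt_ext D hR ?_ fun i => ?_
  · rw [fA_pm, fA_p1, pA_eA]
  · rw [fx_pm, mulx, fA_p1]
    simp only [fx_p1]
    rw [zz_right V b z hz]
    ring

/-- antipode -/
def anti : E.O ⊗[k] D.P →ₐ[k] E.O ⊗[k] D.P :=
  mk D (tf_free hk _) (iA (fA D (AlgHom.id k _))) (invx V b z (fA D (AlgHom.id k _)) (fx D (AlgHom.id k _)))
    (invx_nat V b z nz _ _ (fx_nat D _))

theorem pm_anti : pm (comul V b z nz D hk) (AlgHom.id k _) (anti V b z nz D hk) =
    p1 (counit V b z nz D hk) (E.O ⊗[k] D.P) := by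
  refine pt_ext D (tf_free hk _) ?_ fun i => ?_
  · rw [fA_pm, fA_p1, anti, fA_mk, pA_iA]
  · rw [fx_pm, fx_p1, mulx, anti, fA_mk]
    simp only [fx_mk, invx]
    simp only [Finset.mul_sum]
    rw [Finset.sum_comm]
    have h : ∀ l, ∑ j, (fA D (AlgHom.id k (E.O ⊗[k] D.P))) (mc V b i j) *
        ((iA (fA D (AlgHom.id k (E.O ⊗[k] D.P)))) (mc V b j l) *
          (zz V b z (eA k E.O _) (eA k E.O _) l + zz V b z (fA D (AlgHom.id k _)) (iA (fA D (AlgHom.id k _))) l -
            fx D (AlgHom.id k _) l)) = (if i = l then 1 else 0) *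
          (zz V b z (eA k E.O _) (eA k E.O _) l + zz V b z (fA D (AlgHom.id k _)) (iA (fA D (AlgHom.id k _))) l -
            fx D (AlgHom.id k _) l) := by
      intro l
      have h2 := pA_mc V b (fA D (AlgHom.id k (E.O ⊗[k] D.P))) (iA (fA D (AlgHom.id k (E.O ⊗[k] D.P)))) i l
      rw [pA_iA, eA_mc] at h2
      rw [h2, Finset.sum_mul]
      exact Finset.sum_congr rfl fun j _ => by ring
    rw [Finset.sum_congr rfl fun l _ => h l]
    simp only [ite_mul, one_mul, zero_mul, Finset.sum_ite_eq, Finset.mem_univ, if_true]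
    ring

include hz in
theorem anti_pm : pm (comul V b z nz D hk) (anti V b z nz D hk) (AlgHom.id k _) =
    p1 (counit V b z nz D hk) (E.O ⊗[k] D.P) := by
  refine pt_ext D (tf_free hk _) ?_ fun i => ?_
  · rw [fA_pm, fA_p1, anti, fA_mk, iA_pA]
  · rw [fx_pm, fx_p1, mulx, anti, fA_mk, fx_mk, invx]
    have h := cocycle V b z hz (iA (fA D (AlgHom.id k (E.O ⊗[k] D.P)))) (fA D (AlgHom.id k (E.O ⊗[k] D.P)))
      (iA (fA D (AlgHom.id k (E.O ⊗[k] D.P)))) i
    rw [iA_pA, pA_iA, zz_left V b z hz, ← zz_right V b z hz (iA (fA D (AlgHom.id k (E.O ⊗[k] D.P)))) i] at h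
    simp only [mul_add, mul_sub, Finset.sum_add_distrib, Finset.sum_sub_distrib]
    linear_combination h

/-- the bialgebra -/
@[reducible] def bialg : Bialgebra k (E.O ⊗[k] D.P) :=
  Bialgebra.ofAlgHom (comul V b z nz D hk) (counit V b z nz D hk)
    (coassoc_of _ (pm_assoc V b z hz nz D hk (tf_free hk _) _ _ _))
    (rTensor_of _ _ (p1_pm V b z hz nz D hk (tf_free hk _) _))
    (lTensor_of _ _ (pm_p1 V b z hz nz D hk (tf_free hk _) _))

/-- the Hopf algebra -/
@[reducible] def hopf : HopfAlgebra k (E.O ⊗[k] D.P) :=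
  letI := bialg V b z hz nz D hk
  HopfAlgebra.ofAlgHom (anti V b z nz D hk) (anti_pm V b z hz nz D hk) (pm_anti V b z nz D hk)

end hopf

end Groth.Agent.ResProp.EF.K315
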