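import Groth.Agent.ResProp.EF.K315.HopfExt

/-!
# Existence of one step extensions (block G2b, node J7 of `S16912`)
-/

set_option autoImplicit false

universe u

open TensorProduct

noncomputable section

namespace Groth.Agent.ResProp.EF.K315

open Groth.Agent.ResProp.EF.Grp
open Groth.Agent.ResProp.EF.K624 (TF PDAlg HasPD)
open Groth.Agent.ResProp.EF.K785 (natI mem_natI map_mem_natI)
open Algebra.TensorProduct (productMap includeLeft includeRight)

variable {k : Type u} [CommRing k]

variable {E : Gp k} (V : GMod E) {n : ℕ} (b : Module.Basis (Fin n) k V.V) (z : V.C 2) (hz : V.d 2 z = 0)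
  (nz : ∀ f : V.V →ₗ[k] k, IsNat (coef2 (k := k) (A := E.O) f z)) (D : PDAlg k n) (hk : TF k)

/-- the extension -/
def grp : Gp k where
  O := E.O ⊗[k] D.P
  ha := hopf V b z hz nz D hk
  fr := inferInstanceAs (Module.Free k (E.O ⊗[k] D.P))

theorem map_incl (A P : Type u) [CommRing A] [Algebra k A] [CommRing P] [Algebra k P] :
    Algebra.TensorProduct.map (includeLeft : A →ₐ[k] A ⊗[k] P) (includeLeft : A →ₐ[k] A ⊗[k] P) =
      productMap ((includeLeft : A ⊗[k] P →ₐ[k] (A ⊗[k] P) ⊗[k] (A ⊗[k] P)).comp includeLeft)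
        ((includeRight : A ⊗[k] P →ₐ[k] (A ⊗[k] P) ⊗[k] (A ⊗[k] P)).comp includeLeft) := by
  ext <;> simp [Algebra.TensorProduct.one_def]

/-- the projection to `E` -/
def iota : E.O →ₐc[k] (grp V b z hz nz D hk).O :=
  letI := hopf V b z hz nz D hk
  (BialgHom.ofAlgHom (includeLeft : E.O →ₐ[k] E.O ⊗[k] D.P)
    (by
      have h : fA D (counit V b z nz D hk) = eA k E.O k := fA_mk _ _ _ _ _
      exact h)
    (by
      have h : fA D (comul V b z nz D hk) = _ := fA_mk _ _ _ _ _
      refine Eq.trans ?_ h.symm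
      rw [map_incl]
      rfl) : E.O →ₐc[k] E.O ⊗[k] D.P)

theorem coe_iota : (iota V b z hz nz D hk : E.O →ₐ[k] (grp V b z hz nz D hk).O) =
    (includeLeft : E.O →ₐ[k] E.O ⊗[k] D.P) := rfl

/-- the coordinates of the extension -/
def X (i : Fin n) : (grp V b z hz nz D hk).O := ((1 : E.O) ⊗ₜ[k] D.x i : E.O ⊗[k] D.P)

theorem comul_x (i : Fin n) :
    comul V b z nz D hk ((1 : E.O) ⊗ₜ[k] D.x i) = ((1 : E.O) ⊗ₜ[k] D.x i) ⊗ₜ[k] (1 : E.O ⊗[k] D.P) +
      ∑ j, ((mc V b i j) ⊗ₜ[k] (1 : D.P)) ⊗ₜ[k] ((1 : E.O) ⊗ₜ[k] D.x j) -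
      TensorProduct.map (includeLeft : E.O →ₐ[k] E.O ⊗[k] D.P).toLinearMap
        (includeLeft : E.O →ₐ[k] E.O ⊗[k] D.P).toLinearMap (coef2 (k := k) (A := E.O) (b.coord i) z) := by
  have h : fx D (comul V b z nz D hk) i =
    mulx V b z (fA D includeLeft) (fx D includeLeft) (fA D includeRight) (fx D includeRight) i := fx_mk _ _ _ _ _ _
  refine h.trans ?_
  rw [mulx]
  congr 1
  · congr 1
    refine Finset.sum_congr rfl fun j _ => ?_
    simp [fA, fx]
  · have h3 := congrArg (fun (F : E.O ⊗[k] E.O →ₐ[k] (E.O ⊗[k] D.P) ⊗[k] (E.O ⊗[k] D.P)) =>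
      F (coef2 (k := k) (A := E.O) (b.coord i) z)) (map_incl (k := k) E.O D.P)
    exact h3.symm

theorem comul_X (i : Fin n) :
    Coalgebra.comul (R := k) (X V b z hz nz D hk i) = X V b z hz nz D hk i ⊗ₜ[k] 1 +
      ∑ j, (iota V b z hz nz D hk (mc V b i j)) ⊗ₜ[k] X V b z hz nz D hk j -
      TensorProduct.map (iota V b z hz nz D hk : E.O →ₐ[k] (grp V b z hz nz D hk).O).toLinearMap
        (iota V b z hz nz D hk : E.O →ₐ[k] (grp V b z hz nz D hk).O).toLinearMap
        (coef2 (k := k) (A := E.O) (b.coord i) z) :=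
  comul_x V b z nz D hk i

/-- the tautological cochain -/
def taut : (V.res (iota V b z hz nz D hk)).C 1 :=
  (∑ i, b i ⊗ₜ[k] X V b z hz nz D hk i : V.V ⊗[k] (grp V b z hz nz D hk).O)

theorem coef2_assoc {W A : Type u} [AddCommGroup W] [Module k W] [CommRing A] [Algebra k A] (φ : W →ₗ[k] k) (v : W)
    (w : A ⊗[k] A) : coef2 (k := k) (A := A) φ ((TensorProduct.assoc k W A A).symm (v ⊗ₜ w)) = φ v • w := by
  induction w using TensorProduct.induction_on with
  | zero => simp
  | add x y hx hy => simp only [map_add, TensorProduct.tmul_add, smul_add, hx, hy]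
  | tmul a c =>
    rw [TensorProduct.assoc_symm_tmul, coef2_tmul, coef1_tmul, TensorProduct.smul_tmul']

theorem ext2 {W A : Type u} [AddCommGroup W] [Module k W] [CommRing A] [Algebra k A] {n : ℕ}
    (b : Module.Basis (Fin n) k W) {y y' : (W ⊗[k] A) ⊗[k] A}
    (h : ∀ i, coef2 (k := k) (A := A) (b.coord i) y = coef2 (k := k) (A := A) (b.coord i) y') : y = y' := by
  rw [← sum_coef2 b y, ← sum_coef2 b y']
  exact Finset.sum_congr rfl fun i _ => by rw [h i]

theorem coef1_map {W A B : Type u} [AddCommGroup W] [Module k W] [CommRing A] [Algebra k A] [CommRing B]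
    [Algebra k B] (φ : W →ₗ[k] k) (f : A →ₗ[k] B) (y : W ⊗[k] A) :
    coef1 (k := k) (A := B) φ (TensorProduct.map LinearMap.id f y) = f (coef1 (k := k) (A := A) φ y) := by
  induction y using TensorProduct.induction_on with
  | zero => simp
  | add x y hx hy => simp only [map_add, hx, hy]
  | tmul v a => simp [coef1_tmul]

theorem coef2_map {W A B : Type u} [AddCommGroup W] [Module k W] [CommRing A] [Algebra k A] [CommRing B]
    [Algebra k B] (φ : W →ₗ[k] k) (f : A →ₗ[k] B) (y : (W ⊗[k] A) ⊗[k] A) :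
    coef2 (k := k) (A := B) φ (TensorProduct.map (TensorProduct.map LinearMap.id f) f y) =
      TensorProduct.map f f (coef2 (k := k) (A := A) φ y) := by
  induction y using TensorProduct.induction_on with
  | zero => simp
  | add x y hx hy => simp only [map_add, hx, hy]
  | tmul v a => simp [coef2_tmul, coef1_map]

theorem d_taut : (V.res (iota V b z hz nz D hk)).d 1 (taut V b z hz nz D hk) =
    cres (iota V b z hz nz D hk) V 2 z := by
  refine ext2 (A := (grp V b z hz nz D hk).O) b fun i => ?_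
  have e1 : coef2 (k := k) (A := (grp V b z hz nz D hk).O) (b.coord i) (cres (iota V b z hz nz D hk) V 2 z) =
      TensorProduct.map (iota V b z hz nz D hk : E.O →ₐ[k] (grp V b z hz nz D hk).O).toLinearMap
        (iota V b z hz nz D hk : E.O →ₐ[k] (grp V b z hz nz D hk).O).toLinearMap
        (coef2 (k := k) (A := E.O) (b.coord i) z) := coef2_map (b.coord i) _ z
  have e2 : ∀ j, coef2 (k := k) (A := (grp V b z hz nz D hk).O) (b.coord i)
      ((V.res (iota V b z hz nz D hk)).d 1 (b j ⊗ₜ[k] X V b z hz nz D hk j)) =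
      iota V b z hz nz D hk (mc V b i j) ⊗ₜ[k] X V b z hz nz D hk j -
      (b.coord i (b j)) • (Coalgebra.comul (R := k) (X V b z hz nz D hk j) - X V b z hz nz D hk j ⊗ₜ[k] 1) := by
    intro j
    rw [d1_apply, map_sub, coef2_assoc, coef2_tmul, map_sub, coef1_tmul]
    have e3 : coef1 (k := k) (A := (grp V b z hz nz D hk).O) (b.coord i)
        (rho (V.res (iota V b z hz nz D hk)) (b j)) = iota V b z hz nz D hk (mc V b i j) :=
      coef1_map (b.coord i) _ (rho V (b j))
    rw [e3, TensorProduct.sub_tmul, smul_sub, smul_sub, ← TensorProduct.smul_tmul']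
    abel
  have e4 : coef2 (k := k) (A := (grp V b z hz nz D hk).O) (b.coord i)
      ((V.res (iota V b z hz nz D hk)).d 1 (taut V b z hz nz D hk)) =
      ∑ j, coef2 (k := k) (A := (grp V b z hz nz D hk).O) (b.coord i)
      ((V.res (iota V b z hz nz D hk)).d 1 (b j ⊗ₜ[k] X V b z hz nz D hk j)) := by
    have e5 : (V.res (iota V b z hz nz D hk)).d 1 (taut V b z hz nz D hk) =
      ∑ j, (V.res (iota V b z hz nz D hk)).d 1 (b j ⊗ₜ[k] X V b z hz nz D hk j) := map_sum _ _ _
    rw [e5]
    exact map_sum _ _ _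
  rw [e1, e4, Finset.sum_congr rfl fun j _ => e2 j, Finset.sum_sub_distrib]
  rw [Finset.sum_eq_single (s := Finset.univ) (f := fun j => (b.coord i (b j)) •
    (Coalgebra.comul (R := k) (X V b z hz nz D hk j) - X V b z hz nz D hk j ⊗ₜ[k] 1)) i]
  · rw [comul_X]
    simp only [Module.Basis.coord_apply, Module.Basis.repr_self, Finsupp.single_eq_same, one_smul]
    abel
  · intro c _ hc
    simp [hc]
  · simp

theorem taut_nat (f : V.V →ₗ[k] k) : IsNat (coef1 (k := k) (A := (grp V b z hz nz D hk).O) f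
    (taut V b z hz nz D hk)) := by
  have h : coef1 (k := k) (A := (grp V b z hz nz D hk).O) f (taut V b z hz nz D hk) =
      ∑ i, f (b i) • X V b z hz nz D hk i := by
    refine Eq.trans (map_sum (coef1 (k := k) (A := (grp V b z hz nz D hk).O) f) _ _) ?_
    exact Finset.sum_congr rfl fun i _ => coef1_tmul _ _ _
  rw [h]
  change _ ∈ natI _
  refine sum_mem fun i _ => ?_
  rw [Algebra.smul_def]
  refine Ideal.mul_mem_left _ _ ?_
  exact isNat_map (includeRight : D.P →ₐ[k] E.O ⊗[k] D.P) (D.nx i)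

theorem taut_univ (R : Type u) [CommRing R] [Algebra k R] (hR : ∀ n : ℕ, n ≠ 0 → IsSMulRegular R (n : ℕ))
    (g : E.O →ₐ[k] R) (y : V.V ⊗[k] R) (hy : ∀ f : V.V →ₗ[k] k, IsNat (coef1 (k := k) f y)) :
    ∃! h : (grp V b z hz nz D hk).O →ₐ[k] R,
      h.comp (iota V b z hz nz D hk : E.O →ₐ[k] (grp V b z hz nz D hk).O) = g ∧
        h.toLinearMap.lTensor V.V (taut V b z hz nz D hk) = y := by
  have key : ∀ h : (grp V b z hz nz D hk).O →ₐ[k] R, h.toLinearMap.lTensor V.V (taut V b z hz nz D hk) =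
      ∑ i, b i ⊗ₜ[k] h (X V b z hz nz D hk i) := by
    intro h
    refine Eq.trans (map_sum (h.toLinearMap.lTensor V.V) _ _) ?_
    exact Finset.sum_congr rfl fun i _ => LinearMap.lTensor_tmul _ _ _ _
  have hy' : ∀ i, IsNat (coef1 (k := k) (b.coord i) y) := fun i => hy _
  refine ⟨mk D hR g (fun i => coef1 (k := k) (b.coord i) y) hy', ⟨?_, ?_⟩, ?_⟩
  · exact fA_mk D hR g _ hy'
  · refine (key _).trans ?_
    refine Eq.trans ?_ (sum_coef1 b y)
    refine Finset.sum_congr rfl fun i _ => ?_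
    have h1 := fx_mk D hR g _ hy' i
    exact congrArg _ h1
  · rintro h ⟨h1, h2⟩
    refine pt_ext D hR (h1.trans (fA_mk D hR g _ hy').symm) fun i => ?_
    refine Eq.trans ?_ (fx_mk D hR g _ hy' i).symm
    rw [key] at h2
    have h3 := congrArg (coef1 (k := k) (A := R) (b.coord i)) h2
    rw [map_sum] at h3
    rw [← h3, Finset.sum_eq_single i]
    · rw [coef1_tmul]
      simp
      rfl
    · intro c _ hc
      rw [coef1_tmul]
      simp [hc]
    · simp

/-- the one step extension -/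
def oneStep (fr : Module.Free k V.V) (fi : Module.Finite k V.V) : OneStep E where
  V := V
  free := fr
  fin := fi
  z := z
  hz := hz
  nz := nz
  E' := grp V b z hz nz D hk
  ι := iota V b z hz nz D hk
  x := taut V b z hz nz D hk
  hx := d_taut V b z hz nz D hk
  nx := taut_nat V b z hz nz D hk
  univ := taut_univ V b z hz nz D hk

/-- J7: one step extensions exist. -/
theorem hasOneStep (p : ℕ) [IsLb p k] (hPD : HasPD k) (E : Gp k) : HasOneStep E := by
  intro V fr fi z hz nz
  obtain ⟨D⟩ := hPD (Module.finrank k V.V)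
  have : Nontrivial k := (IsLb.dom p (k := k)).toNontrivial
  exact ⟨oneStep V (Module.finBasis k V.V) z hz nz D (tf_base p) fr fi, rfl, rfl⟩

end Groth.Agent.ResProp.EF.K315
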