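import Groth.Agent.ResProp.EF.Grp
import Mathlib.RingTheory.HopfAlgebra.Convolution

/-!
# Points of bialgebras (block G2b, node J7 of `S16912`)

`pm Δ f g = (f, g) ∘ Δ` is the product of points of a (pre-)bialgebra; criteria for coassociativity, counit, antipode.
-/

set_option autoImplicit false

universe u

open TensorProduct

noncomputable section

namespace Groth.Agent.ResProp.EF.K315

open Groth.Agent.ResProp.EF.Grp
open Algebra.TensorProduct (productMap includeLeft includeRight)

variable {k : Type u} [CommRing k]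

section pre

variable {B R R' : Type u} [CommRing B] [Algebra k B] [CommRing R] [Algebra k R] [CommRing R'] [Algebra k R']
  (Δ : B →ₐ[k] B ⊗[k] B) (ε : B →ₐ[k] k)

/-- product of points -/
def pm (f g : B →ₐ[k] R) : B →ₐ[k] R := (productMap f g).comp Δ

theorem pm_apply (f g : B →ₐ[k] R) (b : B) : pm Δ f g b = productMap f g (Δ b) := rfl

theorem comp_productMap {A B : Type u} [CommRing A] [Algebra k A] [CommRing B] [Algebra k B]
    (φ : R →ₐ[k] R') (f : A →ₐ[k] R) (g : B →ₐ[k] R) :
    φ.comp (productMap f g) = productMap (φ.comp f) (φ.comp g) := by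
  ext <;> simp

theorem comp_pm (φ : R →ₐ[k] R') (f g : B →ₐ[k] R) : φ.comp (pm Δ f g) = pm Δ (φ.comp f) (φ.comp g) := by
  rw [pm, pm, ← AlgHom.comp_assoc, comp_productMap]

/-- unit point -/
def p1 (R : Type u) [CommRing R] [Algebra k R] : B →ₐ[k] R := (Algebra.ofId k R).comp ε

theorem coassoc_of
    (h : pm Δ (pm Δ (includeLeft : B →ₐ[k] B ⊗[k] (B ⊗[k] B)) (includeRight.comp includeLeft))
        (includeRight.comp includeRight) =
      pm Δ (includeLeft : B →ₐ[k] B ⊗[k] (B ⊗[k] B)) (pm Δ (includeRight.comp includeLeft)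
        (includeRight.comp includeRight))) :
    (Algebra.TensorProduct.assoc k k k B B B).toAlgHom.comp
      ((Algebra.TensorProduct.map Δ (.id k B)).comp Δ)
      = (Algebra.TensorProduct.map (.id k B) Δ).comp Δ := by
  have e1 : (Algebra.TensorProduct.assoc k k k B B B).toAlgHom.comp (Algebra.TensorProduct.map Δ (.id k B)) =
      productMap (pm Δ (includeLeft : B →ₐ[k] B ⊗[k] (B ⊗[k] B)) (includeRight.comp includeLeft))
        (includeRight.comp includeRight) := by
    have e0 : (Algebra.TensorProduct.assoc k k k B B B).toAlgHom.comp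
        (includeLeft : (B ⊗[k] B) →ₐ[k] (B ⊗[k] B) ⊗[k] B) =
        productMap (includeLeft : B →ₐ[k] B ⊗[k] (B ⊗[k] B)) (includeRight.comp includeLeft) := by
      ext <;> simp [Algebra.TensorProduct.one_def]
    apply Algebra.TensorProduct.ext
    · rw [AlgHom.comp_assoc, Algebra.TensorProduct.map_comp_includeLeft]
      rw [← AlgHom.comp_assoc, e0]
      ext b
      simp [pm_apply]
    · ext b
      simp [Algebra.TensorProduct.one_def]
  have e2 : (Algebra.TensorProduct.map (.id k B) Δ) =
      productMap (includeLeft : B →ₐ[k] B ⊗[k] (B ⊗[k] B)) (pm Δ (includeRight.comp includeLeft)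
        (includeRight.comp includeRight)) := by
    have e0 : productMap ((includeRight : (B ⊗[k] B) →ₐ[k] B ⊗[k] (B ⊗[k] B)).comp includeLeft)
        (includeRight.comp includeRight) = includeRight := by
      ext <;> simp
    apply Algebra.TensorProduct.ext
    · ext b
      simp
    · rw [pm, e0]
      ext b
      simp
  rw [← AlgHom.comp_assoc, e1, e2]
  exact h

theorem rTensor_of (h : pm Δ (p1 ε (k ⊗[k] B)) includeRight = includeRight) :
    (Algebra.TensorProduct.map ε (.id k B)).comp Δ = (Algebra.TensorProduct.lid k B).symm := by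
  have e1 : (Algebra.TensorProduct.map ε (.id k B)) = productMap (p1 ε (k ⊗[k] B)) includeRight := by
    apply Algebra.TensorProduct.ext
    · ext b
      simp [p1, Algebra.ofId_apply]
    · ext b
      simp
  rw [e1]
  change pm Δ _ _ = _
  rw [h]
  ext b
  simp

theorem lTensor_of (h : pm Δ includeLeft (p1 ε (B ⊗[k] k)) = includeLeft) :
    (Algebra.TensorProduct.map (.id k B) ε).comp Δ = (Algebra.TensorProduct.rid k k B).symm := by
  have e1 : (Algebra.TensorProduct.map (.id k B) ε) = productMap includeLeft (p1 ε (B ⊗[k] k)) := by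
    apply Algebra.TensorProduct.ext
    · ext b
      simp
    · ext b
      simp [p1, Algebra.ofId_apply, Algebra.TensorProduct.algebraMap_apply, Algebra.TensorProduct.tmul_one_eq_one_tmul]
  rw [e1]
  change pm Δ _ _ = _
  rw [h]
  ext b
  simp

end pre

section hopf

variable {A R R' : Type u} [CommRing A] [HopfAlgebra k A] [CommRing R] [Algebra k R] [CommRing R'] [Algebra k R']

/-- product of points of a Hopf algebra -/
abbrev pA (f g : A →ₐ[k] R) : A →ₐ[k] R := pm (Bialgebra.comulAlgHom k A) f g

/-- the unit point -/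
abbrev eA (k A R : Type u) [CommRing k] [CommRing A] [HopfAlgebra k A] [CommRing R] [Algebra k R] : A →ₐ[k] R :=
  p1 (Bialgebra.counitAlgHom k A) R

/-- the inverse point -/
abbrev iA (f : A →ₐ[k] R) : A →ₐ[k] R := f.comp (HopfAlgebra.antipodeAlgHom k A)

open WithConv in
theorem pA_eq (f g : A →ₐ[k] R) : pA f g = (toConv f * toConv g).ofConv := by
  rw [AlgHom.convMul_def, pA, pm]
  change _ = (Algebra.TensorProduct.lmul' k).comp ((Algebra.TensorProduct.map f g).comp _)
  rw [← AlgHom.comp_assoc, Algebra.TensorProduct.productMap_eq_comp_map]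

open WithConv in
theorem pA_assoc (f g h : A →ₐ[k] R) : pA (pA f g) h = pA f (pA g h) := by
  simp only [pA_eq, toConv_ofConv, mul_assoc]

open WithConv in
theorem eA_pA (f : A →ₐ[k] R) : pA (eA k A R) f = f := by
  rw [pA_eq]
  change (1 * toConv f).ofConv = f
  rw [one_mul]

open WithConv in
theorem pA_eA (f : A →ₐ[k] R) : pA f (eA k A R) = f := by
  rw [pA_eq]
  change (toConv f * 1).ofConv = f
  rw [mul_one]

theorem iA_pA (f : A →ₐ[k] R) : pA (iA f) f = eA k A R := by
  have h : pA (iA (AlgHom.id k A)) (AlgHom.id k A) = eA k A A := by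
    rw [pA_eq]
    exact congrArg WithConv.ofConv (AlgHom.antipode_id_cancel (R := k) (A := A))
  have h2 := congrArg f.comp h
  rw [comp_pm] at h2
  rw [← AlgHom.comp_assoc, AlgHom.comp_id] at h2
  refine h2.trans ?_
  ext a
  simp [p1, Algebra.ofId_apply]

theorem pA_iA (f : A →ₐ[k] R) : pA f (iA f) = eA k A R := by
  have h : pA (AlgHom.id k A) (iA (AlgHom.id k A)) = eA k A A := by
    ext a
    have := HopfAlgebra.mul_antipode_lTensor_comul_apply (R := k) a
    rw [pm_apply, Algebra.TensorProduct.productMap_eq_comp_map]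
    have e : (Algebra.TensorProduct.map (AlgHom.id k A) (iA (AlgHom.id k A))).toLinearMap =
        (HopfAlgebra.antipode k (A := A)).lTensor A := by
      ext <;> simp
    have e2 := LinearMap.congr_fun e (Coalgebra.comul (R := k) a)
    rw [← e2, ← Algebra.TensorProduct.lmul'_toLinearMap] at this
    exact this
  have h2 := congrArg f.comp h
  rw [comp_pm] at h2
  rw [← AlgHom.comp_assoc, AlgHom.comp_id] at h2
  refine h2.trans ?_
  ext a
  simp [p1, Algebra.ofId_apply]

end hopf

end Groth.Agent.ResProp.EF.K315
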